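import Mathlib.RingTheory.PicardGroup
import Mathlib.RingTheory.Valuation.ValuationRing
import Mathlib.RingTheory.MvPolynomial.Ideal
import Mathlib.RingTheory.Polynomial.UniqueFactorization
import Mathlib.Algebra.GCDMonoid.Finset
import Mathlib.Algebra.MvPolynomial.NoZeroDivisors

/-!
# Invertible modules over a polynomial ring over a product of valuation rings
-/

universe u

namespace Groth.Agent.PicPoly

noncomputable section

open MvPolynomial

/-- A rank one idempotent matrix over a polynomial ring over a valuation ring splits. -/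
theorem exists_split {σ : Type*} (R : Type u) [CommRing R] [IsDomain R] [ValuationRing R] {N : ℕ}
    (P : Fin N → Fin N → MvPolynomial σ R)
    (hrel : ∀ a b c d, P a b * P c d = P a d * P c b) (htr : ∑ j, P j j = 1) :
    ∃ v w : Fin N → MvPolynomial σ R, ∀ a b, P a b = v a * w b := by
  classical
  let K := FractionRing R
  let φ := algebraMap R K
  have hφ : Function.Injective φ := IsFractionRing.injective R K
  let m : MvPolynomial σ R →+* MvPolynomial σ K := MvPolynomial.map φ
  have hm : Function.Injective m := MvPolynomial.map_injective φ hφ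
  let ν := ValuationRing.valuation R K
  have hint : ∀ x : K, ν x ≤ 1 → x ∈ Set.range φ := fun x hx => by
    obtain ⟨a, ha⟩ := (ValuationRing.mem_integer_iff R K x).1 hx
    exact ⟨a, ha⟩
  have hle : ∀ a : R, ν (φ a) ≤ 1 := fun a => (ValuationRing.mem_integer_iff R K _).2 ⟨a, rfl⟩
  -- extraction of the content
  have hcont : ∀ {κ : Type} [Fintype κ] (f : κ → MvPolynomial σ K), (∃ j, f j ≠ 0) →
      ∃ (c : K) (g : κ → MvPolynomial σ R), c ≠ 0 ∧ (∀ j, f j = C c * m (g j)) ∧
        ∃ j d, IsUnit (coeff d (g j)) := by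
    intro κ _ f ⟨j₀, hj₀⟩
    let T : Finset (κ × (σ →₀ ℕ)) := Finset.univ.biUnion fun j => (f j).support.image (Prod.mk j)
    have hT : T.Nonempty := by
      obtain ⟨d, hd⟩ := MvPolynomial.support_nonempty.2 hj₀
      exact ⟨(j₀, d), Finset.mem_biUnion.2 ⟨j₀, Finset.mem_univ _, Finset.mem_image_of_mem _ hd⟩⟩
    obtain ⟨⟨j₁, d₁⟩, hmem, hmax⟩ := T.exists_max_image (fun p => ν (coeff p.2 (f p.1))) hT
    set c := coeff d₁ (f j₁) with hc
    have hc0 : c ≠ 0 := by
      obtain ⟨j, -, hj⟩ := Finset.mem_biUnion.1 hmem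
      obtain ⟨d, hd, he⟩ := Finset.mem_image.1 hj
      obtain ⟨rfl, rfl⟩ := Prod.ext_iff.1 he
      exact MvPolynomial.mem_support_iff.1 hd
    have hval : ∀ j d, ν (c⁻¹ * coeff d (f j)) ≤ 1 := by
      intro j d
      by_cases hd : coeff d (f j) = 0
      · rw [hd, mul_zero, map_zero]; exact zero_le'
      have h := hmax (j, d) (Finset.mem_biUnion.2 ⟨j, Finset.mem_univ _,
        Finset.mem_image_of_mem _ (MvPolynomial.mem_support_iff.2 hd)⟩)
      rw [map_mul, map_inv₀, inv_mul_le_iff₀ (zero_lt_iff.2 ((ν.ne_zero_iff).2 hc0)), mul_one]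
      exact h
    have hg : ∀ j, C c⁻¹ * f j ∈ Set.range m := fun j => by
      rw [MvPolynomial.mem_range_map_iff_coeffs_subset]
      intro x hx
      obtain ⟨d, -, rfl⟩ := MvPolynomial.mem_coeffs_iff.1 hx
      rw [coeff_C_mul]
      exact hint _ (hval j d)
    choose g hg using hg
    refine ⟨c, g, hc0, fun j => ?_, j₁, d₁, ?_⟩
    · rw [hg, ← mul_assoc, ← map_mul, mul_inv_cancel₀ hc0, map_one, one_mul]
    · have : φ (coeff d₁ (g j₁)) = 1 := by
        rw [← coeff_map, show MvPolynomial.map φ (g j₁) = _ from hg j₁, coeff_C_mul, ← hc,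
          inv_mul_cancel₀ hc0]
      rw [show coeff d₁ (g j₁) = 1 from hφ (this.trans (map_one φ).symm)]
      exact isUnit_one
  -- the splitting over the fraction field
  letI : NormalizedGCDMonoid (MvPolynomial σ K) := Classical.choice inferInstance
  let Q : Fin N → Fin N → MvPolynomial σ K := fun a b => m (P a b)
  obtain ⟨a₀, ha₀⟩ : ∃ a, P a a ≠ 0 := by
    by_contra! h
    simp [h] at htr
  obtain ⟨v, hv, hgcd⟩ := Finset.extract_gcd (s := (Finset.univ : Finset (Fin N)))
    (fun a => Q a a₀) ⟨a₀, Finset.mem_univ _⟩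
  set G := Finset.univ.gcd fun a => Q a a₀
  have hQ0 : Q a₀ a₀ ≠ 0 := (map_ne_zero_iff m hm).2 ha₀
  have hG : G ≠ 0 := fun h => hQ0 (by rw [hv a₀ (Finset.mem_univ _), h, zero_mul])
  have hcross : ∀ a b c, Q a b * v c = Q c b * v a := by
    intro a b c
    apply mul_left_cancel₀ hG
    have h := congrArg m (hrel a b c a₀)
    rw [map_mul, map_mul] at h
    change Q a b * Q c a₀ = Q a a₀ * Q c b at h
    rw [hv a (Finset.mem_univ _), hv c (Finset.mem_univ _)] at h
    linear_combination h
  have hva₀ : v a₀ ≠ 0 := fun h => hQ0 (by rw [hv a₀ (Finset.mem_univ _), h, mul_zero])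
  have hdvd : ∀ b, v a₀ ∣ Q a₀ b := by
    intro b
    have h1 : v a₀ ∣ Finset.univ.gcd fun c => Q a₀ b * v c :=
      Finset.dvd_gcd fun c _ => ⟨Q c b, by rw [hcross a₀ b c]; ring⟩
    rw [(Finset.gcd_mul_left' _ _ _).dvd_iff_dvd_right, hgcd, mul_one] at h1
    exact h1
  choose w hw using hdvd
  have hsplit : ∀ a b, Q a b = v a * w b := by
    intro a b
    apply mul_left_cancel₀ hva₀
    linear_combination (hcross a b a₀) + v a * hw b
  -- integrality
  obtain ⟨c, v', hc0, hv', ju, du, hu⟩ := hcont v ⟨a₀, hva₀⟩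
  have hw' : ∀ b, ∃ w' : MvPolynomial σ R, m w' = C c * w b := by
    intro b
    by_cases hb : w b = 0
    · exact ⟨0, by rw [hb, map_zero, mul_zero]⟩
    obtain ⟨e, g, he0, hg, ⟨⟩, dg, hgu⟩ := hcont (κ := Unit) (fun _ => C c * w b)
      ⟨(), mul_ne_zero (by simpa [MvPolynomial.C_eq_zero] using hc0) hb⟩
    suffices ν e ≤ 1 by
      obtain ⟨e', he'⟩ := hint e this
      exact ⟨C e' * g (), by rw [map_mul, hg ()]; simp [m, he']⟩
    -- the product of two primitive polynomials is primitive
    let π := IsLocalRing.residue R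
    have hne : MvPolynomial.map π (v' ju) * MvPolynomial.map π (g ()) ≠ 0 := by
      refine mul_ne_zero (fun h => ?_) (fun h => ?_)
      · exact (IsLocalRing.residue_ne_zero_iff_isUnit _).2 hu (by rw [← coeff_map, h, coeff_zero])
      · exact (IsLocalRing.residue_ne_zero_iff_isUnit _).2 hgu (by rw [← coeff_map, h, coeff_zero])
    rw [← map_mul] at hne
    obtain ⟨d, hd⟩ := MvPolynomial.ne_zero_iff.1 hne
    rw [coeff_map] at hd
    have hU : IsUnit (coeff d (v' ju * g ())) := (IsLocalRing.residue_ne_zero_iff_isUnit _).1 hd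
    have hP : φ (coeff d (P ju b)) = e * φ (coeff d (v' ju * g ())) := by
      rw [← coeff_map, ← coeff_map, ← coeff_C_mul]
      congr 1
      show Q ju b = C e * m (v' ju * g ())
      have hg' : C c * w b = C e * m (g ()) := hg ()
      rw [map_mul, hsplit, hv']
      linear_combination m (v' ju) * hg'
    have hν : ν (φ (coeff d (v' ju * g ()))) = 1 := by
      obtain ⟨u, hu'⟩ := hU
      refine le_antisymm (hle _) ?_
      rw [← hu']
      calc (1 : ValuationRing.ValueGroup R K) = ν (φ ↑u) * ν (φ ↑u⁻¹) := by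
            rw [← map_mul, ← map_mul, Units.mul_inv, map_one, map_one]
        _ ≤ ν (φ ↑u) * 1 := mul_le_mul' le_rfl (hle _)
        _ = ν (φ ↑u) := mul_one _
    calc ν e = ν e * ν (φ (coeff d (v' ju * g ()))) := by rw [hν, mul_one]
      _ = ν (φ (coeff d (P ju b))) := by rw [hP, map_mul]
      _ ≤ 1 := hle _
  choose w' hw' using hw'
  refine ⟨v', w', fun a b => hm ?_⟩
  rw [map_mul, hw', show m (P a b) = Q a b from rfl, hsplit, hv']
  ring

/-- The Picard group of a polynomial ring over a product of valuation rings is trivial. -/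
theorem pic_subsingleton {ι : Type u} (R : ι → Type u)
    [∀ i, CommRing (R i)] [∀ i, IsDomain (R i)] [∀ i, ValuationRing (R i)]
    (n : ℕ) : Subsingleton (CommRing.Pic (MvPolynomial (Fin n) (∀ i, R i))) := by
  classical
  set A := MvPolynomial (Fin n) (∀ i, R i)
  rw [CommRing.Pic.subsingleton_iff]
  intro M _ _ _
  obtain ⟨N, p, hp⟩ := Module.Finite.exists_fin' A M
  obtain ⟨s, hs⟩ := Module.projective_lifting_property p LinearMap.id hp
  let e : Fin N → M := fun j => p (Pi.single j 1)
  let θ : Fin N → M →ₗ[A] A := fun j => (LinearMap.proj j).comp s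
  have hdual : ∀ x, x = ∑ j, θ j x • e j := by
    intro x
    conv_lhs => rw [← show p (s x) = x from LinearMap.congr_fun hs x,
      pi_eq_sum_univ (s x) (R := A), map_sum]
    refine Finset.sum_congr rfl fun j _ => ?_
    rw [map_smul]
    congr 1
    simp only [e]
    congr 1
    funext i
    simp [Pi.single_apply, eq_comm]
  have hswap : ∀ (f : M →ₗ[A] A) (x y : M), f x • y = f y • x := fun f x y => by
    have h := congrArg ((TensorProduct.lid A M).toLinearMap ∘ₗ LinearMap.rTensor M f)
      (Module.Invertible.tmul_comm (R := A) (m₁ := x) (m₂ := y))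
    simpa using h
  let P : Fin N → Fin N → A := fun a b => θ a (e b)
  have hrel : ∀ a b c d, P a b * P c d = P a d * P c b := fun a b c d => by
    have h := congrArg (θ a) (hswap (θ c) (e d) (e b))
    simp only [map_smul, smul_eq_mul] at h
    simp only [P]
    linear_combination h
  have htr : ∑ j, P j j = 1 := by
    refine eq_of_smul_eq_smul fun x : M => ?_
    rw [Finset.sum_smul, one_smul]
    conv_rhs => rw [hdual x]
    exact Finset.sum_congr rfl fun j _ => hswap (θ j) (e j) x
  -- split componentwise, with bounded degrees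
  let proj : ∀ i, A →+* MvPolynomial (Fin n) (R i) := fun i => MvPolynomial.map (Pi.evalRingHom R i)
  have hsplit : ∀ i, ∃ v w : Fin N → MvPolynomial (Fin n) (R i),
      ∀ a b, proj i (P a b) = v a * w b := fun i => exists_split (R i) (fun a b => proj i (P a b))
      (fun a b c d => by rw [← map_mul, ← map_mul, hrel])
      (by rw [← map_sum, htr, map_one])
  choose v w hvw using hsplit
  have hex : ∀ i, (∃ a, v i a ≠ 0) ∧ ∃ b, w i b ≠ 0 := by
    intro i
    have h1 : ∑ j, v i j * w i j = 1 := by
      rw [← Finset.sum_congr rfl fun j _ => hvw i j j, ← map_sum, htr, map_one]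
    constructor <;>
    · by_contra! h
      simp [h] at h1
  -- the degree bound
  let D : ℕ := Finset.univ.sup fun ab : Fin N × Fin N => (P ab.1 ab.2).totalDegree
  have hbound : ∀ i a, (v i a).totalDegree ≤ D ∧ (w i a).totalDegree ≤ D := by
    intro i a
    have hP : ∀ a b, (proj i (P a b)).totalDegree ≤ D := fun a b =>
      (Finset.sup_mono (MvPolynomial.support_map_subset _ _)).trans
        (Finset.le_sup (f := fun ab : Fin N × Fin N => (P ab.1 ab.2).totalDegree) (Finset.mem_univ (a, b)))
    obtain ⟨⟨a', ha'⟩, b', hb'⟩ := hex i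
    constructor
    · rcases eq_or_ne (v i a) 0 with h | h
      · simp [h]
      · have := hP a b'
        rw [hvw, MvPolynomial.totalDegree_mul_of_isDomain h hb'] at this
        omega
    · rcases eq_or_ne (w i a) 0 with h | h
      · simp [h]
      · have := hP a' a
        rw [hvw, MvPolynomial.totalDegree_mul_of_isDomain ha' h] at this
        omega
  -- glue
  have hcm : ∀ (i : ι) (p : A) (d : Fin n →₀ ℕ), coeff d (proj i p) = coeff d p i :=
    fun i p d => MvPolynomial.coeff_map _ _ _
  have hglue : ∀ f : (i : ι) → MvPolynomial (Fin n) (R i), (∀ i, (f i).totalDegree ≤ D) →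
      ∃ F : A, ∀ i, proj i F = f i := by
    intro f hf
    let Sset : Finset (Fin n →₀ ℕ) := (Fintype.piFinset fun _ : Fin n => Finset.range (D + 1)).image
      Finsupp.equivFunOnFinite.symm
    refine ⟨∑ d ∈ Sset, monomial d (fun i => coeff d (f i)), fun i => ?_⟩
    ext d
    rw [hcm, coeff_sum, Finset.sum_apply,
      Finset.sum_eq_single d (fun x _ hx => by rw [coeff_monomial, if_neg hx]; rfl)]
    · rw [coeff_monomial, if_pos rfl]
    · intro hd
      rw [coeff_monomial, if_pos rfl]
      by_contra hne
      refine hd (Finset.mem_image.2 ⟨d, Fintype.mem_piFinset.2 fun j => Finset.mem_range.2 ?_,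
        Finsupp.equivFunOnFinite.symm_apply_apply d⟩)
      have h1 := MvPolynomial.le_totalDegree (MvPolynomial.mem_support_iff.2 hne)
      have h2 : d j ≤ d.sum fun _ e => e := by
        rcases eq_or_ne (d j) 0 with h | h
        · rw [h]; exact Nat.zero_le _
        · exact Finset.single_le_sum (fun _ _ => Nat.zero_le _) (Finsupp.mem_support_iff.2 h)
      have := hf i
      omega
  choose V hV using fun a => hglue (fun i => v i a) fun i => (hbound i a).1
  choose W hW using fun a => hglue (fun i => w i a) fun i => (hbound i a).2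
  -- a functional taking the value one
  let Θ : M →ₗ[A] A := ∑ a, W a • θ a
  let x₀ : M := ∑ b, V b • e b
  have h1 : Θ x₀ = 1 := by
    have hΘ : Θ x₀ = ∑ a, ∑ b, W a * (V b * P a b) := by
      simp only [Θ, x₀, P, LinearMap.sum_apply, LinearMap.smul_apply, smul_eq_mul]
      refine Finset.sum_congr rfl fun a _ => ?_
      rw [map_sum, Finset.mul_sum]
      refine Finset.sum_congr rfl fun b _ => ?_
      rw [map_smul, smul_eq_mul]
    rw [hΘ]
    apply MvPolynomial.ext
    intro d
    funext i
    have : proj i (∑ a, ∑ b, W a * (V b * P a b)) = proj i 1 := by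
      simp only [map_sum, map_mul, hV, hW, hvw, map_one]
      have h1 : ∑ j, v i j * w i j = 1 := by
        rw [← Finset.sum_congr rfl fun j _ => hvw i j j, ← map_sum, htr, map_one]
      calc ∑ a, ∑ b, w i a * (v i b * (v i a * w i b))
          = (∑ a, v i a * w i a) * ∑ b, v i b * w i b := by
            rw [Finset.sum_mul_sum]
            exact Finset.sum_congr rfl fun a _ => Finset.sum_congr rfl fun b _ => by ring
        _ = 1 := by rw [h1, mul_one]
    have := congrArg (coeff d) this
    rwa [hcm, hcm] at this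
  refine .of_equiv (LinearEquiv.ofBijective Θ (Module.Invertible.bijective_of_surjective
    fun r => ⟨r • x₀, by rw [map_smul, h1, smul_eq_mul, mul_one]⟩)).symm

end

end Groth.Agent.PicPoly
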